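import Groth.Agent.GrassLib.Free
import Groth.Agent.BlowProjLib.Present
import Groth.Agent.BlowUpLib.Props
import Groth.Agent.KoszDetLib.Cone

/-!
# The Grassmannian of the cokernel of a Koszul regular section is the blowing up
-/

set_option autoImplicit false
set_option backward.isDefEq.respectTransparency false
set_option backward.isDefEq.respectTransparency.types false
set_option linter.style.haveILetI false
set_option linter.unusedSectionVars false

universe u

open CategoryTheory CategoryTheory.Limits AlgebraicGeometry TensorProduct GrassLib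

noncomputable section

namespace BlowGrassLib

variable {R : Type u} [CommRing R] {m : ℕ} (f : Fin (m + 1) → R)

/-- The cokernel of the section. -/
abbrev Mf : Type u := (Fin (m + 1) → R) ⧸ Submodule.span R {f}

/-- The image of a basis vector. -/
def bv (i : Fin (m + 1)) : Mf f := Submodule.Quotient.mk (Pi.single i 1)

theorem span_bv : Submodule.span R (Set.range (bv f)) = ⊤ := by
  rw [eq_top_iff]
  rintro x -
  obtain ⟨v, rfl⟩ := Submodule.Quotient.mk_surjective _ x
  rw [pi_eq_sum_univ' v, ← Submodule.mkQ_apply, map_sum]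
  exact Submodule.sum_mem _ fun i _ => by
    rw [map_smul]
    exact Submodule.smul_mem _ _ (Submodule.subset_span ⟨i, rfl⟩)

theorem mk_eq_sum (v : Fin (m + 1) → R) : (Submodule.Quotient.mk v : Mf f) = ∑ i, v i • bv f i := by
  conv_lhs => rw [pi_eq_sum_univ' v, ← Submodule.mkQ_apply, map_sum]
  simp only [map_smul]
  rfl

theorem sum_f_smul : ∑ i, f i • bv f i = 0 := by
  rw [← mk_eq_sum, Submodule.Quotient.mk_eq_zero]
  exact Submodule.mem_span_singleton_self f

variable {A : Type u} [CommRing A] [Algebra R A]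
variable (t : A) (T a : Fin (m + 1) → A) (hT : ∑ i, a i * T i = 1)
  (hf : ∀ i, algebraMap R A (f i) = t * T i)

/-- The projection along a line. -/
def eta0 : (Fin (m + 1) → R) →ₗ[R] (Fin (m + 1) → A) :=
  (Pi.basisFun R (Fin (m + 1))).constr R fun i => Pi.single i 1 - a i • T

theorem eta0_single (i : Fin (m + 1)) : eta0 T a (Pi.single i (1 : R)) = Pi.single i 1 - a i • T := by
  rw [← Pi.basisFun_apply, eta0, Module.Basis.constr_basis]

theorem eta0_apply (v : Fin (m + 1) → R) :
    eta0 T a v = (fun i => algebraMap R A (v i)) - (∑ i, a i * algebraMap R A (v i)) • T := by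
  conv_lhs => rw [pi_eq_sum_univ' v]
  simp only [map_sum, map_smul, eta0_single]
  ext j
  simp only [Finset.sum_apply, Pi.smul_apply, Pi.sub_apply]
  simp only [smul_eq_mul, Algebra.smul_def, mul_sub, Finset.sum_sub_distrib, Finset.sum_mul]
  congr 1
  · rw [Finset.sum_eq_single j (fun i _ h => by simp [Ne.symm h]) (by simp)]
    simp
  · exact Finset.sum_congr rfl fun i _ => by ring

include hT hf in
theorem eta0_f : eta0 T a f = 0 := by
  rw [eta0_apply]
  ext j
  simp only [hf, Pi.sub_apply, Pi.smul_apply, smul_eq_mul, Pi.zero_apply]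
  have : ∑ i, a i * (t * T i) = t := by
    rw [Finset.sum_congr rfl fun i _ => show a i * (t * T i) = t * (a i * T i) by ring,
      ← Finset.mul_sum, hT, mul_one]
  rw [this, sub_self]

/-- The projection on the cokernel. -/
def eta : Mf f →ₗ[R] (Fin (m + 1) → A) :=
  Submodule.liftQ _ (eta0 T a) (by
    rw [Submodule.span_singleton_le_iff_mem]
    exact eta0_f f t T a hT hf)

theorem eta_bv (i : Fin (m + 1)) : eta f t T a hT hf (bv f i) = Pi.single i 1 - a i • T :=
  eta0_single T a i

/-- The image of a vector. -/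
def qv (v : Fin (m + 1) → A) : A ⊗[R] Mf f := ∑ i, v i • ((1 : A) ⊗ₜ[R] bv f i)

theorem eta_qv (v : Fin (m + 1) → A) :
    (eta f t T a hT hf).liftBaseChange A (qv f v) = v - (∑ i, a i * v i) • T := by
  simp only [qv, map_sum, map_smul, LinearMap.liftBaseChange_one_tmul, eta_bv]
  ext j
  simp only [Finset.sum_apply, Pi.smul_apply, Pi.sub_apply, smul_eq_mul, mul_sub,
    Finset.sum_sub_distrib, Finset.sum_mul]
  congr 1
  · rw [Finset.sum_eq_single j (fun i _ h => by simp [Ne.symm h]) (by simp)]
    simp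
  · exact Finset.sum_congr rfl fun i _ => by ring

theorem qv_surjective : Function.Surjective (qv (A := A) f) := by
  intro y
  induction y using TensorProduct.induction_on with
  | zero => exact ⟨0, by simp [qv]⟩
  | tmul c x =>
    obtain ⟨v, rfl⟩ := Submodule.Quotient.mk_surjective _ x
    refine ⟨fun i => c * algebraMap R A (v i), ?_⟩
    rw [mk_eq_sum, tmul_sum, qv]
    refine Finset.sum_congr rfl fun i _ => ?_
    rw [smul_tmul', smul_eq_mul, mul_one, tmul_smul, ← algebraMap_smul A (v i) (c ⊗ₜ[R] bv f i), smul_tmul',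
      smul_eq_mul, mul_comm]
  | add y z hy hz =>
    obtain ⟨v, rfl⟩ := hy
    obtain ⟨w, rfl⟩ := hz
    exact ⟨v + w, by simp [qv, add_smul, Finset.sum_add_distrib]⟩

/-- The pairing with `a`. -/
def pair : (Fin (m + 1) → A) →ₗ[A] A := Fintype.linearCombination A a

theorem pair_apply (v : Fin (m + 1) → A) : pair a v = ∑ i, a i * v i := by
  simp [pair, Fintype.linearCombination_apply, mul_comm]

/-- The point of a line. -/
def lineSub : Submodule A (A ⊗[R] Mf f) := ((eta f t T a hT hf).liftBaseChange A).ker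

theorem range_eta : ((eta f t T a hT hf).liftBaseChange A).range = (pair a).ker := by
  refine le_antisymm ?_ fun v hv => ⟨qv f v, ?_⟩
  · rintro _ ⟨y, rfl⟩
    obtain ⟨v, rfl⟩ := qv_surjective f y
    rw [eta_qv, LinearMap.mem_ker, map_sub, map_smul, pair_apply, pair_apply, hT, smul_eq_mul, mul_one, sub_self]
  · rw [LinearMap.mem_ker, pair_apply] at hv
    rw [eta_qv, hv, zero_smul, sub_zero]

/-- Splitting of free space. -/
def split : (Fin (m + 1) → A) ≃ₗ[A] A × (pair a).ker where
  toFun v := (pair a v, ⟨v - pair a v • T, by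
    rw [LinearMap.mem_ker, map_sub, map_smul, pair_apply a T, hT, smul_eq_mul, mul_one, sub_self]⟩)
  map_add' v w := Prod.ext (map_add _ _ _) (Subtype.ext (by
    show v + w - pair a (v + w) • T = (v - pair a v • T) + (w - pair a w • T)
    rw [map_add, add_smul]; abel))
  map_smul' c v := Prod.ext (map_smul _ _ _) (Subtype.ext (by
    show c • v - pair a (c • v) • T = c • (v - pair a v • T)
    rw [map_smul, smul_sub, smul_assoc]))
  invFun p := p.1 • T + p.2.1
  left_inv v := by simp
  right_inv p := by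
    have h : pair a (p.1 • T + p.2.1) = p.1 := by
      rw [map_add, map_smul, pair_apply a T, hT, LinearMap.mem_ker.1 p.2.2]; simp
    exact Prod.ext h (Subtype.ext (by
      show p.1 • T + p.2.1 - pair a (p.1 • T + p.2.1) • T = p.2.1
      rw [h]; abel))

/-- The quotient by the line. -/
def quotLine : ((A ⊗[R] Mf f) ⧸ lineSub f t T a hT hf) ≃ₗ[A] (pair a).ker :=
  ((eta f t T a hT hf).liftBaseChange A).quotKerEquivRange.trans (LinearEquiv.ofEq _ _ (range_eta f t T a hT hf))

include hT in
theorem projective_ker : Module.Projective A (pair a).ker :=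
  Module.Projective.of_split ((split T a hT).symm.toLinearMap.comp (LinearMap.inr A A (pair a).ker))
    ((LinearMap.snd A A (pair a).ker).comp (split T a hT).toLinearMap) (LinearMap.ext fun w => by simp)

include hT in
theorem finite_ker : Module.Finite A (pair a).ker :=
  Module.Finite.of_surjective ((LinearMap.snd A A (pair a).ker).comp (split T a hT).toLinearMap)
    fun w => ⟨(split T a hT).symm (0, w), by simp⟩

/-- The point of a line. -/
def linePt : Pt R (Mf f) m A where
  toSubmodule := lineSub f t T a hT hf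
  finite_quotient := by
    haveI := finite_ker T a hT
    exact Module.Finite.equiv (quotLine f t T a hT hf).symm
  projective_quotient := by
    haveI := projective_ker T a hT
    exact Module.Projective.of_equiv (quotLine f t T a hT hf).symm
  rankAtStalk_eq p := by
    haveI := finite_ker T a hT
    haveI := projective_ker T a hT
    haveI : Nontrivial A := ⟨⟨0, 1, fun h => p.isPrime.one_notMem (h ▸ zero_mem _)⟩⟩
    rw [Module.rankAtStalk_eq_of_equiv (quotLine f t T a hT hf)]
    have h := congrFun (Module.rankAtStalk_eq_of_equiv (split T a hT)) p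
    rw [free_rank, Module.rankAtStalk_prod, Pi.add_apply, Module.rankAtStalk_self, Pi.one_apply] at h
    omega

include hT hf in
/-- Uniqueness of the line. -/
theorem eq_linePt (ht : t ∈ nonZeroDivisors A) (N : Pt R (Mf f) m A) : N = linePt f t T a hT hf := by
  refine (GrassLib.eq_of_le (N := linePt f t T a hT hf) (N' := N)
    fun y (hy : (eta f t T a hT hf).liftBaseChange A y = 0) => ?_).symm
  obtain ⟨v, rfl⟩ := qv_surjective f y
  rw [eta_qv, sub_eq_zero] at hy
  have hq : qv f v = (∑ i, a i * v i) • qv f T := by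
    conv_lhs => rw [hy]
    simp [qv, Finset.smul_sum, smul_smul]
  rw [hq]
  refine Submodule.smul_mem _ _ ?_
  rw [← Submodule.Quotient.mk_eq_zero, ← Submodule.mkQ_apply]
  obtain ⟨s, hs⟩ := (Module.projective_def.mp N.projective_quotient)
  have h0 : t • N.toSubmodule.mkQ (qv f T) = 0 := by
    rw [← map_smul, qv, Finset.smul_sum]
    simp only [smul_smul, ← hf]
    have h1 : ∑ i, algebraMap R A (f i) • ((1 : A) ⊗ₜ[R] bv f i) = 0 := by
      simp only [algebraMap_smul, ← tmul_smul, ← tmul_sum, sum_f_smul, tmul_zero]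
    rw [h1, map_zero]
  have h2 := congrArg s h0
  rw [map_smul, map_zero] at h2
  have h3 : s (N.toSubmodule.mkQ (qv f T)) = 0 := Finsupp.ext fun z => by
    have := DFunLike.congr_fun h2 z
    rw [Finsupp.smul_apply, smul_eq_mul, Finsupp.zero_apply, mul_comm] at this
    exact mem_nonZeroDivisors_iff_right.mp ht _ this
  rw [← hs (N.toSubmodule.mkQ (qv f T)), h3, map_zero]

include hT hf in
theorem pt_unique (ht : t ∈ nonZeroDivisors A) (N N' : Pt R (Mf f) m A) : N = N' :=
  (eq_linePt f t T a hT hf ht N).trans (eq_linePt f t T a hT hf ht N').symm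

/-! ## The charts -/

theorem chart_nzd (hK : KoszDetLib.IsExactK f) (π : Fin (m + 1) ≃ Fin (m + 1)) :
    (∀ j, algebraMap R (ChartRing R (Mf f) fun l : Fin m => bv f (π l.succ)) (f j) ∈
      Ideal.span {algebraMap R (ChartRing R (Mf f) fun l : Fin m => bv f (π l.succ)) (f (π 0))}) ∧
    algebraMap R (ChartRing R (Mf f) fun l : Fin m => bv f (π l.succ)) (f (π 0)) ∈
      nonZeroDivisors (ChartRing R (Mf f) fun l : Fin m => bv f (π l.succ)) := by
  classical
  let x : Fin m → Mf f := fun l => bv f (π l.succ)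
  let C := ChartRing R (Mf f) x
  let φ₀ := univCoord (R := R) x
  have hn : Normal x φ₀ := normal_univCoord x
  let c : Fin m → C := φ₀ (bv f (π 0))
  have hc : ∀ l : Fin m, algebraMap R C (f (π l.succ)) = -(algebraMap R C (f (π 0)) * c l) := fun l => by
    have h := congrArg (fun z => φ₀ z l) (sum_f_smul f)
    simp only [map_sum, map_smul, map_zero, Pi.zero_apply] at h
    rw [← Equiv.sum_comp π, Fin.sum_univ_succ, Pi.add_apply, Finset.sum_apply] at h
    rw [Finset.sum_eq_single l (fun i _ hi => by
      show (f (π i.succ) • φ₀ (x i)) l = 0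
      rw [hn i, Pi.smul_apply, Pi.single_eq_of_ne (Ne.symm hi), smul_zero]) (by simp)] at h
    rw [show φ₀ (bv f (π l.succ)) = Pi.single l 1 from hn l] at h
    simp only [Pi.smul_apply, Pi.single_eq_same] at h
    rw [← algebraMap_smul C (f (π 0)), ← algebraMap_smul C (f (π l.succ)), smul_eq_mul, smul_eq_mul, mul_one] at h
    exact eq_neg_of_add_eq_zero_right h
  refine ⟨fun j => ?_, ?_⟩
  · obtain ⟨j', rfl⟩ := π.surjective j
    refine Fin.cases ?_ (fun l => ?_) j'
    · exact Ideal.mem_span_singleton_self _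
    · show algebraMap R C (f (π l.succ)) ∈ _
      rw [hc l]
      exact neg_mem (Ideal.mul_mem_right _ _ (Ideal.mem_span_singleton_self _))
  let J : Ideal R := Ideal.span (Set.range f)
  let D := BlowUp.affineAlgebra R J (f (π 0))
  let v : Fin m → D := fun l => BlowUpLib.chartVar f (π 0) (π l.succ)
  have hv : ∀ l, v l * algebraMap R D (f (π 0)) = algebraMap R D (f (π l.succ)) := fun l =>
    BlowUpLib.chartVar_mul f (π 0) _
  have hπr : Set.range (f ∘ π) = Set.range f := by rw [Set.range_comp, Equiv.range_eq_univ, Set.image_univ]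
  obtain ⟨hsurj, hker⟩ := BlowProjLib.presentation_first (f ∘ π) (KRLib.isExactK_comp_equiv hK π) J
    (by show J = _; rw [hπr]) (f (π 0)) rfl v hv
  have hkle : ∀ p ∈ RingHom.ker (MvPolynomial.aeval (R := R) v),
      MvPolynomial.aeval (R := R) (fun l => -c l) p = 0 := by
    intro p hp
    have hp' : p ∈ RingHom.ker (MvPolynomial.aeval (R := R) v).toRingHom := hp
    rw [hker] at hp'
    refine (Ideal.span_le (I := RingHom.ker (MvPolynomial.aeval (R := R) fun l => -c l))).2 ?_ hp'
    rintro _ ⟨l, rfl⟩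
    show MvPolynomial.aeval (R := R) (fun l => -c l) (BlowPerfLib.g (f ∘ π) l) = 0
    rw [BlowPerfLib.g, map_sub, map_mul, MvPolynomial.aeval_C, MvPolynomial.aeval_C, MvPolynomial.aeval_X]
    show algebraMap R C (f (π 0)) * -c l - algebraMap R C (f (π l.succ)) = 0
    rw [hc l]; ring
  let ψ : D →ₐ[R] C := (Ideal.Quotient.liftₐ _ (MvPolynomial.aeval (R := R) fun l => -c l) hkle).comp
    (Ideal.quotientKerAlgEquivOfSurjective (f := MvPolynomial.aeval (R := R) v) hsurj).symm.toAlgHom
  have hψ : ∀ l, ψ (v l) = -c l := fun l => by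
    have h1 : (Ideal.quotientKerAlgEquivOfSurjective (f := MvPolynomial.aeval (R := R) v) hsurj).symm (v l) =
        Ideal.Quotient.mk _ (MvPolynomial.X l) := (AlgEquiv.symm_apply_eq _).mpr (MvPolynomial.aeval_X v l).symm
    show Ideal.Quotient.liftₐ _ _ hkle ((Ideal.quotientKerAlgEquivOfSurjective hsurj).symm (v l)) = _
    rw [h1]
    exact MvPolynomial.aeval_X (R := R) (fun l => -c l) l
  let φD0 : (Fin (m + 1) → R) →ₗ[R] (Fin m → D) :=
    (Pi.basisFun R (Fin (m + 1))).constr R fun j =>
      (Fin.cases (fun l => -v l) (fun l' => Pi.single l' 1) (π.symm j) : Fin m → D)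
  have hD0 : ∀ j', φD0 (Pi.single (π j') (1 : R)) =
      (Fin.cases (fun l => -v l) (fun l' => Pi.single l' 1) j' : Fin m → D) := fun j' => by
    show φD0 _ = _
    rw [← Pi.basisFun_apply]
    simp only [φD0, Module.Basis.constr_basis, Equiv.symm_apply_apply]
  have hDf : φD0 f = 0 := by
    refine (congrArg φD0 (pi_eq_sum_univ' f)).trans ?_
    rw [map_sum, ← Equiv.sum_comp π, Fin.sum_univ_succ]
    simp only [map_smul, hD0, Fin.cases_zero, Fin.cases_succ]
    ext l
    rw [Pi.add_apply, Finset.sum_apply, Finset.sum_eq_single l (fun i _ hi => by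
      rw [Pi.smul_apply, Pi.single_eq_of_ne (Ne.symm hi), smul_zero]) (by simp),
      Pi.smul_apply, Pi.smul_apply, Pi.single_eq_same, Pi.zero_apply, Algebra.smul_def, Algebra.smul_def,
      mul_one, ← hv l]
    ring
  let φD : Mf f →ₗ[R] (Fin m → D) := Submodule.liftQ _ φD0 (by
    rw [Submodule.span_singleton_le_iff_mem]; exact hDf)
  have hDb : ∀ j', φD (bv f (π j')) = (Fin.cases (fun l => -v l) (fun l' => Pi.single l' 1) j' : Fin m → D) := hD0
  have hDn : Normal x φD := fun l => by
    show φD (bv f (π l.succ)) = _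
    rw [hDb, Fin.cases_succ]
  let φ : C →ₐ[R] D := chartLift hDn
  have hid : ψ.comp φ = AlgHom.id R C := by
    refine chartHom_ext (LinearMap.ext_on (span_bv f) ?_)
    rintro _ ⟨j, rfl⟩
    obtain ⟨j', rfl⟩ := π.surjective j
    funext l
    show ψ (φ (chartVar x (bv f (π j')) l)) = chartVar x (bv f (π j')) l
    rw [chartLift_var hDn, hDb]
    refine Fin.cases ?_ (fun l' => ?_) j'
    · rw [Fin.cases_zero, map_neg, hψ, neg_neg]
      rfl
    · rw [Fin.cases_succ]
      refine Eq.trans ?_ (congrFun (hn l') l).symm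
      obtain rfl | h := eq_or_ne l l'
      · simp
      · simp [h]
  have hnzd : algebraMap R D (f (π 0)) ∈ nonZeroDivisors D := by
    have hu : IsUnit (algebraMap R (Localization.Away (f (π 0))) (f (π 0))) :=
      IsLocalization.Away.algebraMap_isUnit _
    refine mem_nonZeroDivisors_iff_right.mpr fun z hz => Subtype.ext ?_
    exact hu.mul_left_eq_zero.mp (congrArg Subtype.val hz)
  show algebraMap R C (f (π 0)) ∈ nonZeroDivisors C
  refine mem_nonZeroDivisors_iff_right.mpr fun z hz => ?_
  have h : φ z * algebraMap R D (f (π 0)) = 0 :=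
    (congrArg (φ z * ·) (φ.commutes _).symm).trans ((map_mul φ z _).symm.trans ((congrArg φ hz).trans (map_zero φ)))
  have h0 := mem_nonZeroDivisors_iff_right.mp hnzd _ h
  calc z = ψ (φ z) := (DFunLike.congr_fun hid z).symm
    _ = 0 := by rw [h0, map_zero]

/-! ## The Grassmannian is the blowing up -/

/-- The ideal of the sequence. -/
abbrev center : Ideal R := Ideal.span (Set.range f)

theorem gen_eq {A : CommAlgCat.{u} R} {t : A} (ht : t ∈ nonZeroDivisors A)
    (h : (center f).map (algebraMap R A) = Ideal.span {t}) :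
    ∃ (T a : Fin (m + 1) → A) (_ : ∑ i, a i * T i = 1), ∀ i, algebraMap R A (f i) = t * T i := by
  rw [center, Ideal.map_span, ← Set.range_comp] at h
  have h1 : ∀ i, ∃ c, algebraMap R A (f i) = t * c := fun i =>
    Ideal.mem_span_singleton.1 (h ▸ Ideal.subset_span ⟨i, rfl⟩)
  choose T hT using h1
  have h2 : t ∈ Ideal.span (Set.range (⇑(algebraMap R A) ∘ f)) := h ▸ Ideal.mem_span_singleton_self t
  obtain ⟨a, ha⟩ := Ideal.mem_span_range_iff_exists_fun.1 h2
  refine ⟨T, a, sub_eq_zero.1 (mem_nonZeroDivisors_iff_right.mp ht _ ?_), hT⟩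
  rw [sub_mul, one_mul, Finset.sum_mul]
  refine sub_eq_zero.2 ((Finset.sum_congr rfl fun i _ => ?_).trans ha)
  show a i * T i * t = a i * algebraMap R A (f i)
  rw [hT i]; ring

theorem exists_cartier_chart {Y : Scheme.{u}} (g : Y ⟶ base R)
    (hY : BlowUp.IsEffCartierIdeal ((BlowUpLib.specIdeal (center f)).comap g)) (y : Y) :
    ∃ (A : CommAlgCat.{u} R) (a : APt g A) (t : A), IsOpenImmersion a.hom ∧ y ∈ Set.range a.hom ∧
      t ∈ nonZeroDivisors A ∧ (center f).map (algebraMap R A) = Ideal.span {t} := by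
  obtain ⟨B, _, j, hj, t, ht, hy, hI⟩ := BlowUpLib.exists_spec_chart hY y
  obtain ⟨φ, hφ⟩ := Spec.map_surjective (j ≫ g)
  letI : Algebra R B := φ.hom.toAlgebra
  refine ⟨CommAlgCat.of R B, ⟨j, hφ.symm⟩, t, hj, hy, ht, BlowUpLib.specIdeal_injective ?_⟩
  rw [← BlowUpLib.comap_specIdeal, ← hI, ← Scheme.IdealSheafData.comap_comp]
  exact congrArg (fun k => Scheme.IdealSheafData.comap _ k) hφ

theorem hom_eq (P : RepPair R (Mf f) m) {Y : Scheme.{u}} (g : Y ⟶ base R)
    (hY : BlowUp.IsEffCartierIdeal ((BlowUpLib.specIdeal (center f)).comap g)) (h h' : Y ⟶ P.X.left)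
    (hh : h ≫ P.X.hom = g) (hh' : h' ≫ P.X.hom = g) : h = h' := by
  choose A a t ho hy ht hI using exists_cartier_chart f g hY
  refine Scheme.Cover.hom_ext (Scheme.Cover.mkOfCovers Y (fun y => Spec (CommRingCat.of (A y))) (fun y => (a y).hom)
    (fun y => ⟨y, hy y⟩) ho : Y.OpenCover) _ _ fun (y : Y) => ?_
  obtain ⟨T, b, hT, hf⟩ := gen_eq f (ht y) (hI y)
  show (a y).hom ≫ h = (a y).hom ≫ h'
  exact congrArg APt.hom (P.val_injective
    (a := ⟨(a y).hom ≫ h, by rw [RepPair.fam_g, Category.assoc, hh, (a y).over]⟩)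
    (b := ⟨(a y).hom ≫ h', by rw [RepPair.fam_g, Category.assoc, hh', (a y).over]⟩)
    (pt_unique f (t y) T b hT hf (ht y) _ _))

theorem isBlowUp_rep (hK : KoszDetLib.IsExactK f) (P : RepPair R (Mf f) m) :
    BlowUp.IsBlowUp P.X.hom (BlowUpLib.specIdeal (center f)) := by
  classical
  refine ⟨BlowUpLib.isEffCartier_of_cover fun t => ?_, fun Y g hY => ?_⟩
  · obtain ⟨x, hxS, htx⟩ := P.exists_mem_chartOpen (Set.range (bv f))
      (fun K _ _ N => exists_isIn_of_span (span_bv f) N) t
    choose σ hσ using hxS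
    obtain ⟨i, hi, -⟩ := P.exists_chart_iso x
    let p : Spec (CommRingCat.of (ChartRing R (Mf f) x)) := i.hom ⟨t, htx⟩
    haveI : Nontrivial (ChartRing R (Mf f) x) :=
      ⟨⟨0, 1, fun h => p.isPrime.one_notMem (h ▸ zero_mem _)⟩⟩
    have hinj : Function.Injective σ := fun j j' hjj => by
      by_contra hne
      have h : (Pi.single j 1 : Fin m → ChartRing R (Mf f) x) = Pi.single j' 1 := by
        rw [← normal_univCoord x j, ← normal_univCoord x j', ← hσ j, ← hσ j', hjj]
      exact one_ne_zero (α := ChartRing R (Mf f) x) (by simpa [hne] using congrFun h j)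
    obtain ⟨i₀, hi₀⟩ : ∃ i₀, i₀ ∉ Set.range σ := by
      by_contra h
      push Not at h
      have := Fintype.card_le_of_surjective σ h
      simp at this
    have hbij : Function.Bijective (Fin.cons i₀ σ : Fin (m + 1) → Fin (m + 1)) :=
      (Finite.injective_iff_bijective).1 (Fin.cons_injective_iff.2 ⟨hi₀, hinj⟩)
    let π := Equiv.ofBijective _ hbij
    have hx : x = fun l : Fin m => bv f (π l.succ) := funext fun l => by
      rw [← hσ l]
      simp [π]
    subst hx
    obtain ⟨hmem, hnzd⟩ := chart_nzd f hK π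
    refine ⟨Spec (CommRingCat.of (ChartRing R (Mf f) fun l : Fin m => bv f (π l.succ))), i.inv ≫ (P.chartOpen _).ι,
      inferInstance, ⟨p, ?_⟩, ?_⟩
    · show (i.inv ≫ (P.chartOpen _).ι) (i.hom _) = t
      rw [← Scheme.Hom.comp_apply, Iso.hom_inv_id_assoc]
      rfl
    · rw [← Scheme.IdealSheafData.comap_comp, Category.assoc, ← hi, Iso.inv_hom_id_assoc, BlowUpLib.comap_specIdeal]
      have e : (center f).map (algebraMap R (ChartRing R (Mf f) fun l : Fin m => bv f (π l.succ))) =
          Ideal.span {algebraMap R _ (f (π 0))} := by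
        rw [center, Ideal.map_span]
        refine le_antisymm (Ideal.span_le.2 ?_) (Ideal.span_le.2 ?_)
        · rintro _ ⟨_, ⟨j, rfl⟩, rfl⟩
          exact hmem j
        · rintro _ rfl
          exact Ideal.subset_span ⟨_, ⟨_, rfl⟩, rfl⟩
      exact e ▸ BlowUpLib.isEffCartier_specIdeal hnzd
  · choose A a t ho hy ht hI using exists_cartier_chart f g hY
    let 𝒰 : Y.OpenCover := Scheme.Cover.mkOfCovers Y (fun y => Spec (CommRingCat.of (A y))) (fun y => (a y).hom)
      (fun y => ⟨y, hy y⟩) ho
    have hN : ∀ y, ∃ c : Spec (CommRingCat.of (A y)) ⟶ P.X.left, c ≫ P.X.hom = sp (A y) := fun y => by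
      obtain ⟨T, b, hT, hf⟩ := gen_eq f (ht y) (hI y)
      exact ⟨_, (P.pt (linePt f (t y) T b hT hf)).over⟩
    choose c hc using hN
    have hag : ∀ y z : Y, pullback.fst (a y).hom (a z).hom ≫ c y = pullback.snd (a y).hom (a z).hom ≫ c z := fun y z => by
      haveI := ho y
      haveI := ho z
      refine hom_eq f P (pullback.fst (a y).hom (a z).hom ≫ sp (A y)) ?_ _ _ (by rw [Category.assoc, hc]) ?_
      · rw [← (a y).over, ← Category.assoc, Scheme.IdealSheafData.comap_comp]
        exact BlowUpLib.isEffCartier_comap_of_flat _ hY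
      · rw [Category.assoc, hc, ← (a y).over, ← (a z).over, pullback.condition_assoc]
    refine ⟨𝒰.glueMorphisms c hag, ?_, fun h hh => ?_⟩
    · refine 𝒰.hom_ext _ _ fun (y : Y) => ?_
      rw [← Category.assoc, Scheme.Cover.ι_glueMorphisms, hc]
      exact (a y).over.symm
    · refine hom_eq f P g hY _ _ hh ?_
      refine 𝒰.hom_ext _ _ fun (y : Y) => ?_
      rw [← Category.assoc, Scheme.Cover.ι_glueMorphisms, hc]
      exact (a y).over.symm

end BlowGrassLib

end
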